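import Groth.Agent.Deform.Chev.Points
import Groth.Agent.GrpSchLib.AntiAffineHom
import Mathlib.AlgebraicGeometry.AlgClosed.Basic
import Mathlib.AlgebraicGeometry.Morphisms.Proper

/-! The rigidity behind Blanchard's lemma. -/

universe u

open CategoryTheory CategoryTheory.Limits MonoidalCategory CartesianMonoidalCategory MonObj AlgebraicGeometry

namespace Groth.Agent.Deform.Blanchard
attribute [local instance] CategoryTheory.Hom.monoid CategoryTheory.Hom.group
set_option linter.style.haveILetI false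
set_option linter.unusedSectionVars false
set_option maxHeartbeats 1000000
open Chev (Pt pimg)

variable {K : Type u} [Field K] [IsAlgClosed K]

/-- The point of `K`. -/
local notation "o" => IsLocalRing.closedPoint K

theorem pt_ext {A : Over (Spec (CommRingCat.of K))} [LocallyOfFiniteType A.hom] {a b : Pt A}
    (h : pimg a = pimg b) : a = b :=
  Over.OverMorphism.ext (ext_of_apply_closedPoint_eq A.hom (Over.w a) (Over.w b) h)

theorem exists_pt_of_closed {A : Over (Spec (CommRingCat.of K))} [LocallyOfFiniteType A.hom] {p : A.left}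
    (hp : IsClosed ({p} : Set A.left)) : ∃ a : Pt A, pimg a = p :=
  ⟨Over.homMk (pointOfClosedPoint A.hom p hp) (pointOfClosedPoint_comp A.hom p hp),
    pointOfClosedPoint_apply A.hom p hp _⟩

theorem isClosed_pimg {A : Over (Spec (CommRingCat.of K))} [LocallyOfFiniteType A.hom] (a : Pt A) :
    IsClosed ({pimg a} : Set A.left) :=
  (pointEquivClosedPoint A.hom ⟨a.left, Over.w a⟩).2

theorem mem_basicOpen_iff {A : Scheme.{u}} (a : Spec (CommRingCat.of K) ⟶ A) (t : Γ(A, ⊤)) :
    a o ∈ A.basicOpen t ↔ a.appTop t ≠ 0 := by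
  constructor
  · intro h h0
    have h1 : o ∈ a ⁻¹ᵁ A.basicOpen t := h
    rw [Scheme.preimage_basicOpen_top, h0, Scheme.basicOpen_zero] at h1
    exact h1
  · intro h
    have hu : IsUnit (a.appTop t) := by
      have := (isUnit_iff_ne_zero (a := (Scheme.ΓSpecIso (CommRingCat.of K)).hom (a.appTop t))).2
        (fun h0 => h ((Scheme.ΓSpecIso (CommRingCat.of K)).commRingCatIsoToRingEquiv.injective
          (h0.trans (map_zero _).symm)))
      simpa using this.map (Scheme.ΓSpecIso (CommRingCat.of K)).inv.hom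
    show o ∈ a ⁻¹ᵁ A.basicOpen t
    rw [Scheme.preimage_basicOpen_top, Scheme.basicOpen_of_isUnit _ hu]
    trivial

/-- The value of a function at a point. -/
noncomputable def ev {A : Scheme.{u}} (a : Spec (CommRingCat.of K) ⟶ A) : Γ(A, ⊤) →+* K :=
  (a.appTop ≫ (Scheme.ΓSpecIso (CommRingCat.of K)).hom).hom

theorem ev_eq_zero_iff {A : Scheme.{u}} (a : Spec (CommRingCat.of K) ⟶ A) (t : Γ(A, ⊤)) :
    ev a t = 0 ↔ a o ∉ A.basicOpen t := by
  rw [mem_basicOpen_iff, not_not]
  exact ⟨fun h => (Scheme.ΓSpecIso (CommRingCat.of K)).commRingCatIsoToRingEquiv.injective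
    (h.trans (map_zero _).symm), fun h => by
    show (Scheme.ΓSpecIso (CommRingCat.of K)).hom (a.appTop t) = 0
    rw [h, map_zero]⟩

theorem ext_ev {A : Scheme.{u}} [IsAffine A] {a b : Spec (CommRingCat.of K) ⟶ A} (h : ∀ t, ev a t = ev b t) :
    a = b := by
  refine ext_of_isAffine (CommRingCat.hom_ext (RingHom.ext fun t => ?_))
  exact (Scheme.ΓSpecIso (CommRingCat.of K)).commRingCatIsoToRingEquiv.injective (h t)

/-- **A map from a connected proper scheme into an affine scheme is constant on points.** -/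
theorem const_to_affine {F U : Over (Spec (CommRingCat.of K))} [IsProper F.hom] [PreconnectedSpace F.left]
    [IsAffine U.left] (φ : F ⟶ U) (a b : Pt F) : a ≫ φ = b ≫ φ := by
  classical
  refine Over.OverMorphism.ext (ext_ev fun s => ?_)
  haveI : JacobsonSpace F.left := LocallyOfFiniteType.jacobsonSpace F.hom
  let t := φ.left.appTop s
  have hev : ∀ x : Pt F, ev (x ≫ φ).left s = ev x.left t := fun x => by
    show ((x ≫ φ).left.appTop ≫ (Scheme.ΓSpecIso (CommRingCat.of K)).hom).hom s = _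
    rw [Over.comp_left, Scheme.Hom.comp_appTop]
    rfl
  rw [hev, hev]
  let cst : K →+* Γ(F.left, ⊤) := ((Scheme.ΓSpecIso (CommRingCat.of K)).inv ≫ F.hom.appTop).hom
  have hι : ∀ (x : Pt F) (c : K), ev x.left (cst c) = c := fun x c => by
    show (Scheme.ΓSpecIso (CommRingCat.of K)).hom (x.left.appTop (F.hom.appTop _)) = c
    rw [← CommRingCat.comp_apply F.hom.appTop, ← Scheme.Hom.comp_appTop,
      show x.left ≫ F.hom = 𝟙 _ from Over.w x, Scheme.Hom.id_appTop]
    exact (Scheme.ΓSpecIso (CommRingCat.of K)).commRingCatIsoToRingEquiv.apply_symm_apply c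
  have hint : cst.IsIntegralElem t := by
    have h1 : F.hom.appTop.hom.IsIntegral := isIntegral_appTop_of_universallyClosed F.hom
    obtain ⟨P, hP, hPt⟩ := h1 t
    refine ⟨P.map (Scheme.ΓSpecIso (CommRingCat.of K)).hom.hom, hP.map _, ?_⟩
    rw [Polynomial.eval₂_map, ← hPt]
    congr 1
    ext c
    show F.hom.appTop ((Scheme.ΓSpecIso (CommRingCat.of K)).inv ((Scheme.ΓSpecIso (CommRingCat.of K)).hom c)) = _
    exact congrArg (fun z => F.hom.appTop z)
      ((Scheme.ΓSpecIso (CommRingCat.of K)).commRingCatIsoToRingEquiv.symm_apply_apply c)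
  obtain ⟨P, hP, hPt⟩ := hint
  let R := P.roots.toFinset
  have hroot : ∀ x : Pt F, ev x.left t ∈ R := fun x => by
    rw [Multiset.mem_toFinset, Polynomial.mem_roots hP.ne_zero]
    have h2 := congrArg (ev x.left) hPt
    rw [Polynomial.hom_eval₂, map_zero] at h2
    rw [Polynomial.IsRoot.def, ← h2, show (ev x.left).comp cst = RingHom.id K from RingHom.ext (hι x)]
    rfl
  let Z : K → Set F.left := fun c => ((F.left.basicOpen (t - cst c) : Set F.left))ᶜ
  have hZ : ∀ (x : Pt F) (c : K), pimg x ∈ Z c ↔ ev x.left t = c := fun x c => by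
    rw [← sub_eq_zero]
    conv_rhs => rw [← hι x c, ← map_sub, ev_eq_zero_iff]
    rfl
  have hcl : ∀ c, IsClosed (Z c) := fun c => (F.left.basicOpen (t - cst c)).2.isClosed_compl
  let Z' : Set F.left := ⋃ c ∈ R.erase (ev a.left t), Z c
  have hZ' : IsClosed Z' := (R.erase _).finite_toSet.isClosed_biUnion fun c _ => hcl c
  have hpt : ∀ C : Set F.left, IsLocallyClosed C → C.Nonempty → ∃ x : Pt F, pimg x ∈ C := fun C hC hne => by
    obtain ⟨p, hp, hpc⟩ := nonempty_inter_closedPoints hne hC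
    obtain ⟨x, rfl⟩ := exists_pt_of_closed hpc
    exact ⟨x, hp⟩
  have hcover : Z (ev a.left t) ∪ Z' = Set.univ := by
    by_contra hne
    obtain ⟨x, hx⟩ := hpt (Z (ev a.left t) ∪ Z')ᶜ ((hcl _).union hZ').isOpen_compl.isLocallyClosed
      (Set.nonempty_compl.2 hne)
    by_cases he : ev x.left t = ev a.left t
    · exact hx (Or.inl ((hZ x _).2 he))
    · exact hx (Or.inr (Set.mem_biUnion (Finset.mem_erase.2 ⟨he, hroot x⟩) ((hZ x _).2 rfl)))
  have hdisj : Z (ev a.left t) ∩ Z' = ∅ := by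
    by_contra hne
    obtain ⟨x, hx1, hx2⟩ := hpt (Z (ev a.left t) ∩ Z') ((hcl _).inter hZ').isLocallyClosed
      (Set.nonempty_iff_ne_empty.2 hne)
    obtain ⟨c, hc, hxc⟩ := Set.mem_iUnion₂.1 hx2
    exact (Finset.mem_erase.1 hc).1 (((hZ x c).1 hxc).symm.trans ((hZ x _).1 hx1))
  have hclopen : IsClopen (Z (ev a.left t)) := by
    refine ⟨hcl _, ?_⟩
    have : Z (ev a.left t) = Z'ᶜ :=
      (IsCompl.of_eq hdisj hcover).eq_compl
    rw [this]
    exact hZ'.isOpen_compl
  have := hclopen.eq_univ ⟨pimg a, (hZ a _).2 rfl⟩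
  exact ((hZ b _).1 (this ▸ Set.mem_univ _)).symm

/-- **Rigidity.** A family of maps parametrised by a connected group sends each connected proper subscheme which
the unit member contracts to a point. -/
theorem const_family {G F Y : Over (Spec (CommRingCat.of K))} [GrpObj G] [LocallyOfFiniteType G.hom]
    [ConnectedSpace G.left] [IsProper F.hom] [PreconnectedSpace F.left] [LocallyOfFiniteType Y.hom]
    (H : G ⊗ F ⟶ Y) (y : Pt Y) (hH : ∀ x : F.left, (lift (toUnit F ≫ η[G]) (𝟙 F) ≫ H).left x = pimg y)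
    (g : Pt G) (x x₁ : Pt F) : lift g x ≫ H = lift g x₁ ≫ H := by
  classical
  haveI : JacobsonSpace F.left := LocallyOfFiniteType.jacobsonSpace F.hom
  haveI : IrreducibleSpace G.left := by
    obtain ⟨c, hc, hce⟩ := GrpSchLib.exists_isMaxPt (η[G].left (IsLocalRing.closedPoint K))
    have h := GrpSchLib.connectedComponent_one hc hce
    rw [PreconnectedSpace.connectedComponent_eq_univ] at h
    refine { isPreirreducible_univ := ?_, toNonempty := ⟨c⟩ }
    rw [h]
    exact isIrreducible_singleton.closure.isPreirreducible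
  let φ : Pt G → (F ⟶ Y) := fun g => lift (toUnit F ≫ g) (𝟙 F) ≫ H
  have hφ : ∀ (g : Pt G) (x : Pt F), x ≫ φ g = lift g x ≫ H := fun g x => by
    rw [← Category.assoc, comp_lift, Category.comp_id, ← Category.assoc,
      show x ≫ toUnit F = 𝟙 _ from toUnit_unique _ _, Category.id_comp]
  obtain ⟨U₀, hU₀, hyU⟩ : ∃ U₀ : Y.left.Opens, IsAffineOpen U₀ ∧ pimg y ∈ U₀ := by
    obtain ⟨_, ⟨U₀, hU₀, rfl⟩, hyU, -⟩ := Y.left.isBasis_affineOpens.exists_subset_of_mem_open
      (Set.mem_univ (pimg y)) isOpen_univ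
    exact ⟨U₀, hU₀, hyU⟩
  -- the good open
  haveI : LocallyOfFiniteType (G ⊗ F).hom :=
    inferInstanceAs (LocallyOfFiniteType (pullback.fst G.hom F.hom ≫ G.hom))
  haveI : UniversallyClosed (fst G F).left := MorphismProperty.pullback_fst (P := @UniversallyClosed) _ _ inferInstance
  let Bad : Set G.left := (fst G F).left '' (H.left ⁻¹' (U₀ : Set Y.left))ᶜ
  have hBad : IsClosed Bad :=
    (fst G F).left.isClosedMap _ (U₀.2.preimage H.left.continuous).isClosed_compl
  have himg : ∀ (g : Pt G) (p : F.left), pimg g ∉ Bad → (φ g).left p ∈ U₀ := by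
    intro g p hg
    by_contra hp
    refine hg ⟨(lift (toUnit F ≫ g) (𝟙 F)).left p, ?_, ?_⟩
    · intro h
      exact hp h
    · rw [← Scheme.Hom.comp_apply, ← Over.comp_left, lift_fst, Over.comp_left, Scheme.Hom.comp_apply]
      exact congrArg g.left (Subsingleton.elim (α := PrimeSpectrum K) _ _)
  have heta : pimg (η[G] : Pt G) ∉ Bad := by
    rintro ⟨q, hq, hqe⟩
    have hfc : (fst G F).left q = pimg (η[G] : Pt G) := hqe
    by_contra
    haveI : JacobsonSpace (G ⊗ F).left := LocallyOfFiniteType.jacobsonSpace (G ⊗ F).hom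
    obtain ⟨r, hr, hrc⟩ := nonempty_inter_closedPoints (Z := (fst G F).left ⁻¹' {pimg (η[G] : Pt G)} ∩
        (H.left ⁻¹' (U₀ : Set Y.left))ᶜ) ⟨q, hfc, hq⟩
      (((isClosed_pimg _).preimage (fst G F).left.continuous).inter
        (U₀.2.preimage H.left.continuous).isClosed_compl).isLocallyClosed
    obtain ⟨w, rfl⟩ := exists_pt_of_closed hrc
    have hw1 : w ≫ fst G F = η[G] := pt_ext (by rw [← hr.1]; rfl)
    refine hr.2 ?_
    show H.left (pimg w) ∈ U₀
    have e : w = (w ≫ snd G F) ≫ lift (toUnit F ≫ η[G]) (𝟙 F) := by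
      apply CartesianMonoidalCategory.hom_ext
      · rw [Category.assoc, lift_fst, ← Category.assoc, hw1, toUnit_unique ((w ≫ snd G F) ≫ toUnit F) (𝟙 _),
          Category.id_comp]
      · rw [Category.assoc, lift_snd, Category.comp_id]
    have h2 := hH (pimg (w ≫ snd G F))
    rw [Over.comp_left, Scheme.Hom.comp_apply] at h2
    rw [e]
    show H.left ((lift (toUnit F ≫ η[G]) (𝟙 F)).left (pimg (w ≫ snd G F))) ∈ U₀
    rw [h2]
    exact hyU
  let Ω : G.left.Opens := ⟨Badᶜ, hBad.isOpen_compl⟩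
  have hconst : ∀ (g : Pt G), pimg g ∈ Ω → ∀ a b : Pt F, a ≫ φ g = b ≫ φ g := by
    intro g hg a b
    haveI : IsAffine (U₀ : Scheme.{u}) := hU₀
    have hr : Set.range (φ g).left ⊆ Set.range U₀.ι := by
      rintro _ ⟨p, rfl⟩
      rw [Scheme.Opens.range_ι]
      exact himg g p hg
    let U' : Over (Spec (CommRingCat.of K)) := Over.mk (U₀.ι ≫ Y.hom)
    haveI : IsAffine U'.left := hU₀
    let ψ : F ⟶ U' := Over.homMk (IsOpenImmersion.lift U₀.ι (φ g).left hr) (by
      show _ ≫ U₀.ι ≫ Y.hom = _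
      rw [IsOpenImmersion.lift_fac_assoc, Over.w (φ g)])
    let j : U' ⟶ Y := Over.homMk U₀.ι rfl
    have hj : ψ ≫ j = φ g := Over.OverMorphism.ext (IsOpenImmersion.lift_fac _ _ _)
    rw [← hj, ← Category.assoc, ← Category.assoc, const_to_affine ψ a b]
  -- spread to every point
  have hloc : ∀ (a b : Pt F) (U : Y.left.Opens), IsAffineOpen U → pimg (a ≫ φ g) ∈ U → pimg (b ≫ φ g) ∈ U →
      a ≫ φ g = b ≫ φ g := by
    intro a b U hU haU hbU
    let α : G ⟶ Y := lift (𝟙 G) (toUnit G ≫ a) ≫ H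
    let β : G ⟶ Y := lift (𝟙 G) (toUnit G ≫ b) ≫ H
    have hα : ∀ (c : Pt F) (g : Pt G), g ≫ lift (𝟙 G) (toUnit G ≫ c) ≫ H = c ≫ φ g := fun c g => by
      rw [hφ, ← Category.assoc, comp_lift, Category.comp_id, ← Category.assoc,
        toUnit_unique (g ≫ toUnit G) (𝟙 _), Category.id_comp]
    let W : G.left.Opens := α.left ⁻¹ᵁ U ⊓ β.left ⁻¹ᵁ U
    have hgW : pimg g ∈ W := ⟨by
      show α.left (pimg g) ∈ U
      rw [show α.left (pimg g) = pimg (a ≫ φ g) by rw [← hα]; rfl]
      exact haU, by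
      show β.left (pimg g) ∈ U
      rw [show β.left (pimg g) = pimg (b ≫ φ g) by rw [← hα]; rfl]
      exact hbU⟩
    haveI : IsAffine (U : Scheme.{u}) := hU
    let aU : (W : Scheme.{u}) ⟶ U := IsOpenImmersion.lift U.ι (W.ι ≫ α.left) (by
      rintro _ ⟨p, rfl⟩; rw [Scheme.Opens.range_ι]; exact p.2.1)
    let bU : (W : Scheme.{u}) ⟶ U := IsOpenImmersion.lift U.ι (W.ι ≫ β.left) (by
      rintro _ ⟨p, rfl⟩; rw [Scheme.Opens.range_ι]; exact p.2.2)
    have haU' : aU ≫ U.ι = W.ι ≫ α.left := IsOpenImmersion.lift_fac _ _ _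
    have hbU' : bU ≫ U.ι = W.ι ≫ β.left := IsOpenImmersion.lift_fac _ _ _
    have hlift : ∀ g' : Pt G, pimg g' ∈ W → ∃ w : Spec (CommRingCat.of K) ⟶ (W : Scheme.{u}), w ≫ W.ι = g'.left := by
      intro g' hg'
      refine ⟨IsOpenImmersion.lift W.ι g'.left ?_, IsOpenImmersion.lift_fac _ _ _⟩
      rintro _ ⟨p, rfl⟩
      rw [Scheme.Opens.range_ι, Subsingleton.elim (α := PrimeSpectrum K) p (IsLocalRing.closedPoint K)]
      exact hg'
    have hval : ∀ (g' : Pt G) (w : Spec (CommRingCat.of K) ⟶ (W : Scheme.{u})), w ≫ W.ι = g'.left →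
        (w ≫ aU ≫ U.ι = (a ≫ φ g').left ∧ w ≫ bU ≫ U.ι = (b ≫ φ g').left) := fun g' w hw => by
      rw [haU', hbU', reassoc_of% hw, reassoc_of% hw, ← Over.comp_left, ← Over.comp_left, hα, hα]
      exact ⟨rfl, rfl⟩
    obtain ⟨w, hw⟩ := hlift g hgW
    have key : w ≫ aU = w ≫ bU := by
      refine ext_ev fun s => ?_
      rw [← sub_eq_zero]
      let d := aU.appTop s - bU.appTop s
      have hd : ∀ v : Spec (CommRingCat.of K) ⟶ (W : Scheme.{u}), ev (v ≫ aU) s - ev (v ≫ bU) s = ev v d :=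
        fun v => by
          show _ = ev v (_ - _)
          rw [map_sub]
          simp only [ev, Scheme.Hom.comp_appTop, Category.assoc]
          rfl
      rw [hd, ev_eq_zero_iff]
      intro hmem
      let D : G.left.Opens := W.ι ''ᵁ ((W : Scheme.{u}).basicOpen d)
      have hgD : pimg g ∈ D := ⟨w o, hmem, by show (w ≫ W.ι) o = _; rw [hw]; rfl⟩
      obtain ⟨p, hp⟩ := nonempty_preirreducible_inter D.2 Ω.2 ⟨_, hgD⟩ ⟨_, heta⟩
      haveI : JacobsonSpace G.left := LocallyOfFiniteType.jacobsonSpace G.hom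
      obtain ⟨q, hq, hqc⟩ := nonempty_inter_closedPoints (Z := (D : Set G.left) ∩ (Ω : Set G.left)) ⟨p, hp⟩
        (D.2.inter Ω.2).isLocallyClosed
      obtain ⟨g', rfl⟩ := exists_pt_of_closed hqc
      obtain ⟨r, hr, hrr⟩ := hq.1
      obtain ⟨v, hv⟩ := hlift g' (hrr ▸ r.2)
      have hv' : v o = r := W.ι.isOpenEmbedding.injective (by
        show (v ≫ W.ι) o = _
        rw [hv]; exact hrr.symm)
      have e : v ≫ aU = v ≫ bU := (cancel_mono U.ι).1 (by
        rw [Category.assoc, Category.assoc, (hval g' v hv).1, (hval g' v hv).2, hconst g' hq.2 a b])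
      have h0 : ev v d = 0 := by rw [← hd, e, sub_self]
      exact (ev_eq_zero_iff v d).1 h0 (hv'.symm ▸ hr)
    refine pt_ext ?_
    show (a ≫ φ g).left o = (b ≫ φ g).left o
    rw [← (hval g w hw).1, ← (hval g w hw).2, ← Category.assoc, ← Category.assoc w bU, key]
  -- connectedness of the source
  rw [← hφ, ← hφ]
  let y' := pimg (x₁ ≫ φ g)
  obtain ⟨U, hU, hyU'⟩ : ∃ U : Y.left.Opens, IsAffineOpen U ∧ y' ∈ U := by
    obtain ⟨_, ⟨U, hU, rfl⟩, hyU', -⟩ := Y.left.isBasis_affineOpens.exists_subset_of_mem_open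
      (Set.mem_univ y') isOpen_univ
    exact ⟨U, hU, hyU'⟩
  let Z : Set F.left := (φ g).left ⁻¹' {y'}
  have hZc : IsClosed Z := (isClosed_pimg _).preimage (φ g).left.continuous
  have hZ : Z = (φ g).left ⁻¹' (U : Set Y.left) := by
    refine Set.Subset.antisymm (fun p hp => ?_) fun p hp => ?_
    · show (φ g).left p ∈ U
      rw [show (φ g).left p = y' from hp]
      exact hyU'
    · by_contra hpZ
      obtain ⟨q, hq, hqc⟩ := nonempty_inter_closedPoints (Z := (φ g).left ⁻¹' (U : Set Y.left) ∩ Zᶜ) ⟨p, hp, hpZ⟩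
        ((U.2.preimage (φ g).left.continuous).inter hZc.isOpen_compl).isLocallyClosed
      obtain ⟨c, rfl⟩ := exists_pt_of_closed hqc
      exact hq.2 (congrArg pimg (hloc c x₁ U hU hq.1 hyU'))
  have hclopen : IsClopen Z := ⟨hZc, hZ ▸ U.2.preimage (φ g).left.continuous⟩
  have hZu := hclopen.eq_univ ⟨pimg x₁, rfl⟩
  exact pt_ext (show pimg x ∈ Z from hZu ▸ Set.mem_univ _)

end Groth.Agent.Deform.Blanchard
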