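import Mathlib.AlgebraicGeometry.Morphisms.Flat
import Mathlib.AlgebraicGeometry.Morphisms.Proper
import Mathlib.Topology.Sheaves.Stalks

/-! Morphisms with `f_* O = O`: surjectivity, flat base change, factorisation of maps constant on fibres. -/

universe u

open CategoryTheory CategoryTheory.Limits AlgebraicGeometry TopologicalSpace Opposite

namespace Groth.Agent.Deform.Blanchard
set_option maxHeartbeats 1000000
set_option linter.style.haveILetI false

variable {X Y : Scheme.{u}}

/-- Being an isomorphism on sections can be checked on a basis. -/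
theorem isIso_app_of_basis (p : X ⟶ Y) {B : Set Y.Opens} (hB : Opens.IsBasis B)
    (h : ∀ V ∈ B, IsIso (p.app V)) (U : Y.Opens) : IsIso (p.app U) := by
  let F : TopCat.Sheaf CommRingCat Y.toTopCat := Y.sheaf
  let G : TopCat.Sheaf CommRingCat Y.toTopCat := (TopCat.Sheaf.pushforward CommRingCat p.base).obj X.sheaf
  let c : F ⟶ G := ⟨p.c⟩
  have hinj : ∀ x : Y, Function.Injective ((TopCat.Presheaf.stalkFunctor CommRingCat x).map c.1) := fun x =>
    TopCat.Presheaf.stalkFunctor_map_injective_of_isBasis hB (α := c.1)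
      (fun V hV => ((ConcreteCategory.isIso_iff_bijective _).1 (h V hV)).1) x
  refine (ConcreteCategory.isIso_iff_bijective _).2 ⟨?_, ?_⟩
  · exact TopCat.Presheaf.app_injective_of_stalkFunctor_map_injective (F := F) c.1 U fun x _ => hinj x
  · refine TopCat.Presheaf.app_surjective_of_injective_of_locally_surjective (F := F) (G := G) c U
      (fun x _ => hinj x) fun t x hx => ?_
    obtain ⟨V, hV, hxV, hVU⟩ := (Opens.isBasis_iff_nbhd.1 hB) hx
    obtain ⟨s, hs⟩ := ((ConcreteCategory.isIso_iff_bijective _).1 (h V hV)).2 (G.1.map (homOfLE hVU).op t)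
    exact ⟨V, hxV, homOfLE hVU, s, hs⟩

/-- **Flat base change of `f_* O = O`.** -/
theorem isIso_app_of_flat {X' Y' : Scheme.{u}} {f : X ⟶ Y} {g : Y' ⟶ Y} {g' : X' ⟶ X} {f' : X' ⟶ Y'}
    (sq : IsPullback g' f' f g) [Flat g] [QuasiCompact f] [QuasiSeparated f]
    (hf : ∀ U : Y.Opens, IsIso (f.app U)) (U : Y'.Opens) : IsIso (f'.app U) := by
  let B : Set Y'.Opens := {V | IsAffineOpen V ∧ ∃ W : Y.Opens, IsAffineOpen W ∧ V ≤ g ⁻¹ᵁ W}
  refine isIso_app_of_basis f' (B := B) (Opens.isBasis_iff_nbhd.2 fun {U x} hx => ?_) (fun V ⟨hV, W, hW, hVW⟩ => ?_) U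
  · obtain ⟨_, ⟨W, hW, rfl⟩, hxW, -⟩ := Y.isBasis_affineOpens.exists_subset_of_mem_open
      (Set.mem_univ (g x)) isOpen_univ
    obtain ⟨_, ⟨V, hV, rfl⟩, hxV, hVU⟩ := Y'.isBasis_affineOpens.exists_subset_of_mem_open
      (a := x) (show x ∈ (U ⊓ g ⁻¹ᵁ W : Y'.Opens) from ⟨hx, hxW⟩) (U ⊓ g ⁻¹ᵁ W).2
    exact ⟨V, ⟨hV, W, hW, fun y hy => (hVU hy).2⟩, hxV, fun y hy => (hVU hy).1⟩
  · have hUY : f' ⁻¹ᵁ V = g' ⁻¹ᵁ (f ⁻¹ᵁ W) ⊓ f' ⁻¹ᵁ V := by
      refine (inf_eq_right.2 ?_).symm
      rw [← Scheme.Hom.comp_preimage, sq.w, Scheme.Hom.comp_preimage]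
      exact fun y hy => hVW hy
    haveI := isIso_pushoutSection_of_isQuasiSeparated_of_flat_right sq hVW (le_refl (f ⁻¹ᵁ W)) hUY hW hV
      (f.isCompact_preimage hW.isCompact) (f.isQuasiSeparated_preimage hW.isQuasiSeparated)
    have hp := (isIso_pushoutSection_iff sq hVW (le_refl (f ⁻¹ᵁ W)) hUY).1 inferInstance
    rw [← Scheme.Hom.app_eq_appLE f, ← Scheme.Hom.app_eq_appLE f'] at hp
    exact hp.isIso_inr_of_isIso (hf W)

/-- A closed morphism with `f_* O = O` is surjective. -/
theorem surjective_of_isIso_app (f : X ⟶ Y) [UniversallyClosed f] (hf : ∀ U : Y.Opens, IsIso (f.app U)) :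
    Surjective f := by
  refine ⟨fun y => ?_⟩
  by_contra hy
  have hcl : IsClosed (Set.range f) := f.isClosedMap.isClosed_range
  let U : Y.Opens := ⟨(Set.range f)ᶜ, hcl.isOpen_compl⟩
  have hU : f ⁻¹ᵁ U = ⊥ := by
    ext x
    simp [U]
  haveI : Subsingleton Γ(X, f ⁻¹ᵁ U) := by rw [hU]; infer_instance
  haveI : Subsingleton Γ(Y, U) :=
    ((ConcreteCategory.isIso_iff_bijective _).1 (hf U)).1.subsingleton
  haveI : Nonempty U := ⟨⟨y, hy⟩⟩
  exact not_nontrivial Γ(Y, U) inferInstance

variable (f : X ⟶ Y) [Surjective f] (hf : ∀ U : Y.Opens, IsIso (f.app U))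
include hf

/-- Morphisms agreeing after composition agree. -/
theorem hom_ext {Z : Scheme.{u}} {a b : Y ⟶ Z} (h : f ≫ a = f ≫ b) : a = b := by
  have hbase : a.base = b.base := by
    ext y
    obtain ⟨x, rfl⟩ := f.surjective y
    exact congr($(h).base x)
  refine Scheme.Hom.ext hbase fun V => ?_
  haveI := hf (b ⁻¹ᵁ V)
  have e := Scheme.Hom.congr_app h V
  rw [Scheme.Hom.comp_app, Scheme.Hom.comp_app] at e
  rw [← cancel_mono (f.app (b ⁻¹ᵁ V)), Category.assoc, Scheme.Hom.naturality, ← Category.assoc]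
  erw [e]
  refine (Category.assoc _ _ _).trans ((congrArg _ ((X.presheaf.map_comp _ _).symm.trans
    ((congrArg X.presheaf.map (Subsingleton.elim _ (𝟙 _))).trans (X.presheaf.map_id _)))).trans (Category.comp_id _))

/-- **Maps constant on the fibres factor.** -/
theorem exists_factor [UniversallyClosed f] {Z : Scheme.{u}} (h : X ⟶ Z)
    (hconst : ∀ p q : X, f p = f q → h p = h q) : ∃ a : Y ⟶ Z, f ≫ a = h := by
  classical
  choose sec hsec using fun y : Y => f.surjective y
  let ab : Y → Z := fun y => h (sec y)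
  have hab : ∀ x, ab (f x) = h x := fun x => hconst _ _ (hsec (f x))
  have hq : Topology.IsQuotientMap f.base :=
    f.isClosedMap.isQuotientMap f.continuous f.surjective
  have hcont : Continuous ab := by
    rw [hq.continuous_iff]
    exact h.continuous.congr fun x => (hab x).symm
  let b : Y.toTopCat ⟶ Z.toTopCat := TopCat.ofHom ⟨ab, hcont⟩
  have hb : f.base ≫ b = h.base := by ext x; exact hab x
  have hpre : ∀ V : Z.Opens, h ⁻¹ᵁ V = f ⁻¹ᵁ ((Opens.map b).obj V) := fun V => by
    ext x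
    show h x ∈ V ↔ ab (f x) ∈ V
    rw [hab]
  let c : Z.presheaf ⟶ b _* Y.presheaf :=
    { app := fun V => h.app V.unop ≫ X.presheaf.map (eqToHom (hpre V.unop).symm).op ≫
        (haveI := hf ((Opens.map b).obj V.unop); inv (f.app ((Opens.map b).obj V.unop)))
      naturality := fun V W i => by
        haveI := hf ((Opens.map b).obj V.unop); haveI := hf ((Opens.map b).obj W.unop)
        rw [← cancel_mono (f.app ((Opens.map b).obj W.unop))]
        simp only [Category.assoc, IsIso.inv_hom_id, Category.comp_id, TopCat.Presheaf.pushforward_obj_map]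
        rw [Scheme.Hom.naturality f, IsIso.inv_hom_id_assoc, Scheme.Hom.naturality_assoc h, ← Functor.map_comp,
          ← Functor.map_comp]
        rfl }
  let P : Y.toPresheafedSpace ⟶ Z.toPresheafedSpace := ⟨b, c⟩
  have hP : f.toLRSHom.toHom ≫ P = h.toLRSHom.toHom := by
    refine AlgebraicGeometry.PresheafedSpace.ext _ _ hb ?_
    refine NatTrans.ext (funext fun V => ?_)
    induction V using Opposite.rec with
    | op V =>
      haveI := hf ((Opens.map b).obj V)
      show ((h.app V ≫ _ ≫ inv (f.app _)) ≫ f.app _) ≫ _ = h.app V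
      simp only [Category.assoc, IsIso.inv_hom_id_assoc]
      rw [CategoryTheory.Functor.whiskerRight_app, eqToHom_app]
      erw [← Functor.map_comp]
      rw [
        show (eqToHom (hpre V).symm).op ≫ _ = 𝟙 _ from Subsingleton.elim _ _, X.presheaf.map_id, Category.comp_id]
  refine ⟨⟨P, fun y => ?_⟩, Scheme.Hom.ext' (LocallyRingedSpace.Hom.ext' hP)⟩
  obtain ⟨x, rfl⟩ := f.surjective y
  have hs := PresheafedSpace.stalkMap.comp f.toLRSHom.toHom P x
  haveI hl : IsLocalHom ((f.toLRSHom.toHom ≫ P).stalkMap x).hom := by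
    rw [hP]; exact h.toLRSHom.prop x
  rw [hs] at hl
  haveI : IsLocalHom ((f.toLRSHom.toHom.stalkMap x).hom.comp (P.stalkMap (f x)).hom) := hl
  exact _root_.isLocalHom_of_comp (P.stalkMap _).hom (f.toLRSHom.toHom.stalkMap x).hom

end Groth.Agent.Deform.Blanchard
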