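import Groth.Agent.Deform.Blanchard.Factor
import Groth.Agent.Deform.Blanchard.Const
import Groth.Agent.GrpSchLib.Coincidence
import Groth.Agent.AssLib.FlatField
import Groth.Agent.SteinLib.General
import Groth.Agent.Deform.Extension
import Groth.Prelude.Def_AlgGrp

/-! Blanchard's lemma: actions descend along proper morphisms with `f_* O = O`. -/

universe u

open CategoryTheory CategoryTheory.Limits MonoidalCategory CartesianMonoidalCategory MonObj AlgebraicGeometry

namespace Groth.Agent.Deform.Blanchard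
attribute [local instance] CategoryTheory.Hom.monoid CategoryTheory.Hom.group
set_option linter.style.haveILetI false
set_option linter.unusedSectionVars false
set_option maxHeartbeats 1000000
open Chev (Pt pimg)

variable {k : Type u} [Field k]
variable {G X Y : Over (Spec (CommRingCat.of k))}

/-- Products with a further factor preserve `f_* O = O`. -/
theorem whisker (A : Over (Spec (CommRingCat.of k))) (f : X ⟶ Y) [IsProper f.left]
    (hf : ∀ U : Y.left.Opens, IsIso (f.left.app U)) :
    IsProper (A ◁ f).left ∧ ∀ U : (A ⊗ Y).left.Opens, IsIso ((A ◁ f).left.app U) := by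
  have sq := GrpSchLib.isPullback_whiskerLeft (W := A) f
  haveI : Flat A.hom := AssLib.flat_over_field A.hom
  haveI : Flat (snd A Y).left := MorphismProperty.pullback_snd (P := @Flat) _ _ inferInstance
  exact ⟨MorphismProperty.of_isPullback (P := @IsProper) sq.flip inferInstance,
    isIso_app_of_flat sq.flip hf⟩

theorem over_hom_ext (f : X ⟶ Y) [IsProper f.left] (hf : ∀ U : Y.left.Opens, IsIso (f.left.app U))
    {Z : Over (Spec (CommRingCat.of k))} {a b : Y ⟶ Z} (h : f ≫ a = f ≫ b) : a = b := by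
  haveI := surjective_of_isIso_app f.left hf
  exact Over.OverMorphism.ext (hom_ext f.left hf (congrArg CommaMorphism.left h))

theorem over_exists_factor (f : X ⟶ Y) [IsProper f.left] (hf : ∀ U : Y.left.Opens, IsIso (f.left.app U))
    {Z : Over (Spec (CommRingCat.of k))} (h : X ⟶ Z)
    (hc : ∀ p q : X.left, f.left p = f.left q → h.left p = h.left q) : ∃ a : Y ⟶ Z, f ≫ a = h := by
  haveI := surjective_of_isIso_app f.left hf
  obtain ⟨a, ha⟩ := exists_factor f.left hf h.left hc
  exact ⟨Over.homMk a (hom_ext f.left hf (by rw [← Category.assoc, ha, Over.w h, Over.w f])),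
    Over.OverMorphism.ext ha⟩

/-- **An action compatible with the fibres descends uniquely.** -/
theorem exists_action [GrpObj G] (f : X ⟶ Y) [IsProper f.left] (hf : ∀ U : Y.left.Opens, IsIso (f.left.app U))
    (a : AlgGrp.Action G X)
    (hc : ∀ p q : (G ⊗ X).left, (G ◁ f).left p = (G ◁ f).left q → (a.act ≫ f).left p = (a.act ≫ f).left q) :
    ∃! b : AlgGrp.Action G Y, (G ◁ f) ≫ b.act = a.act ≫ f := by
  obtain ⟨hp, hi⟩ := whisker G f hf
  haveI := hp
  obtain ⟨b, hb⟩ := over_exists_factor (G ◁ f) hi (a.act ≫ f) hc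
  obtain ⟨hp1, hi1⟩ := whisker (𝟙_ (Over (Spec (CommRingCat.of k)))) f hf
  obtain ⟨hp2, hi2⟩ := whisker (G ⊗ G) f hf
  haveI := hp1; haveI := hp2
  refine ⟨⟨b, ?_, ?_⟩, hb, fun c hc => ?_⟩
  · apply over_hom_ext (𝟙_ _ ◁ f) hi1
    rw [← Category.assoc, whisker_exchange, Category.assoc, hb, ← Category.assoc, a.one_act, leftUnitor_naturality]
  · apply over_hom_ext ((G ⊗ G) ◁ f) hi2
    rw [← Category.assoc, whisker_exchange, Category.assoc, hb, ← Category.assoc, a.mul_act, Category.assoc,
      Category.assoc, ← hb, ← whiskerLeft_comp_assoc, ← hb]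
    simp [tensor_whiskerLeft]
  · obtain ⟨act, h1, h2⟩ := c
    have : act = b := over_hom_ext (G ◁ f) hi (hc.trans hb.symm)
    subst this
    rfl

/-- Two maps agreeing on rational points agree on all points. -/
theorem eq_of_pts [IsAlgClosed k] {W : Over (Spec (CommRingCat.of k))} [LocallyOfFiniteType W.hom] (a b : W ⟶ Y)
    (h : ∀ w : Pt W, a.left (pimg w) = b.left (pimg w)) (p : W.left) : a.left p = b.left p := by
  haveI : JacobsonSpace W.left := LocallyOfFiniteType.jacobsonSpace W.hom
  refine Specializes.antisymm ?_ ?_ |>.eq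
  all_goals
    rw [specializes_iff_forall_open]
    intro U hU hpU
    by_contra hn
  · obtain ⟨c, hc, hcc⟩ := nonempty_inter_closedPoints (Z := b.left ⁻¹' U ∩ (a.left ⁻¹' U)ᶜ) ⟨p, hpU, hn⟩
      ((hU.preimage b.left.continuous).isLocallyClosed.inter
        (hU.preimage a.left.continuous).isClosed_compl.isLocallyClosed)
    obtain ⟨w, rfl⟩ := exists_pt_of_closed hcc
    exact hc.2 (show a.left (pimg w) ∈ U from (h w).symm ▸ hc.1)
  · obtain ⟨c, hc, hcc⟩ := nonempty_inter_closedPoints (Z := a.left ⁻¹' U ∩ (b.left ⁻¹' U)ᶜ) ⟨p, hpU, hn⟩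
      ((hU.preimage a.left.continuous).isLocallyClosed.inter
        (hU.preimage b.left.continuous).isClosed_compl.isLocallyClosed)
    obtain ⟨w, rfl⟩ := exists_pt_of_closed hcc
    exact hc.2 (show b.left (pimg w) ∈ U from (h w) ▸ hc.1)

/-- **Blanchard's lemma on rational points.** -/
theorem const_pts [IsAlgClosed k] [GrpObj G] [LocallyOfFiniteType G.hom] [ConnectedSpace G.left]
    [LocallyOfFiniteType Y.hom] (f : X ⟶ Y) [IsProper f.left] [GeometricallyConnected f.left]
    (h : G ⊗ X ⟶ Y) (h1 : lift (toUnit X ≫ η[G]) (𝟙 X) ≫ h = f) (g : Pt G) (x₁ x₂ : Pt X)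
    (e : x₁ ≫ f = x₂ ≫ f) : lift g x₁ ≫ h = lift g x₂ ≫ h := by
  let y : Pt Y := x₁ ≫ f
  let F : Over (Spec (CommRingCat.of k)) := Over.mk (pullback.snd f.left y.left)
  haveI : IsProper F.hom := MorphismProperty.pullback_snd (P := @IsProper) _ _ inferInstance
  let j : F ⟶ X := Over.homMk (pullback.fst f.left y.left) (by
    show _ ≫ X.hom = pullback.snd f.left y.left
    rw [← Over.w f, pullback.condition_assoc, show y.left ≫ Y.hom = 𝟙 _ from Over.w y, Category.comp_id])
  haveI : ConnectedSpace F.left := by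
    haveI : GeometricallyConnected (pullback.snd f.left y.left) :=
      MorphismProperty.pullback_snd (P := @GeometricallyConnected) _ _ ‹_›
    haveI : Subsingleton ↥(𝟙_ (Over (Spec (CommRingCat.of k)))).left := inferInstanceAs (Subsingleton (PrimeSpectrum k))
    haveI : Nonempty ↥(𝟙_ (Over (Spec (CommRingCat.of k)))).left := inferInstanceAs (Nonempty (PrimeSpectrum k))
    exact GeometricallyConnected.connectedSpace_of_subsingleton (pullback.snd f.left y.left)
  have hy : ∀ x : F.left, (lift (toUnit F ≫ η[G]) (𝟙 F) ≫ (G ◁ j) ≫ h).left x = pimg y := by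
    intro x
    have e1 : lift (toUnit F ≫ η[G]) (𝟙 F) ≫ (G ◁ j) ≫ h = j ≫ f := by
      rw [← h1, ← Category.assoc, ← Category.assoc j]
      congr 1
      apply CartesianMonoidalCategory.hom_ext
      · simp
      · simp
    rw [e1]
    show f.left (pullback.fst f.left y.left x) = _
    rw [← Scheme.Hom.comp_apply, pullback.condition, Scheme.Hom.comp_apply]
    exact congrArg y.left (Subsingleton.elim (α := PrimeSpectrum k) _ _)
  have hl : ∀ x : Pt X, x ≫ f = y → ∃ x' : Pt F, x' ≫ j = x := fun x hx => by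
    refine ⟨Over.homMk (pullback.lift x.left (𝟙 _) (by
      rw [← Over.comp_left, hx]; exact (Category.id_comp _).symm))
      (pullback.lift_snd _ _ _), ?_⟩
    exact Over.OverMorphism.ext (pullback.lift_fst _ _ _)
  obtain ⟨a, ha⟩ := hl x₁ rfl
  obtain ⟨b, hb⟩ := hl x₂ e.symm
  have hlj : ∀ a : Pt F, lift g (a ≫ j) ≫ h = lift g a ≫ (G ◁ j) ≫ h := fun a => by
    rw [← Category.assoc (lift g a)]
    congr 1
    apply CartesianMonoidalCategory.hom_ext <;> simp
  rw [← ha, ← hb, hlj, hlj]
  exact const_family ((G ◁ j) ≫ h) y hy g a b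

end Groth.Agent.Deform.Blanchard

namespace Groth.Agent.Deform.Blanchard
attribute [local instance] CategoryTheory.Hom.monoid CategoryTheory.Hom.group
open Chev (Pt pimg)

variable {k : Type u} [Field k]
variable {G X Y : Over (Spec (CommRingCat.of k))}

set_option maxHeartbeats 1000000 in
/-- **Blanchard's lemma on the underlying spaces.** -/
theorem const_top [IsAlgClosed k] [GrpObj G] [LocallyOfFiniteType G.hom] [ConnectedSpace G.left]
    [LocallyOfFiniteType X.hom] [LocallyOfFiniteType Y.hom] (f : X ⟶ Y) [IsProper f.left] [GeometricallyConnected f.left]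
    (h : G ⊗ X ⟶ Y) (h1 : lift (toUnit X ≫ η[G]) (𝟙 X) ≫ h = f)
    {W : Over (Spec (CommRingCat.of k))} [LocallyOfFiniteType W.hom] (q₁ q₂ : W ⟶ G ⊗ X)
    (hq : q₁ ≫ (G ◁ f) = q₂ ≫ (G ◁ f)) (p : W.left) : (q₁ ≫ h).left p = (q₂ ≫ h).left p := by
  refine eq_of_pts (q₁ ≫ h) (q₂ ≫ h) (fun w => ?_) p
  have e := congrArg (w ≫ ·) hq
  have e1 : (w ≫ q₁) ≫ fst G X = (w ≫ q₂) ≫ fst G X := by
    have := congrArg (· ≫ fst G Y) e
    simpa [Category.assoc] using this
  have e2 : ((w ≫ q₁) ≫ snd G X) ≫ f = ((w ≫ q₂) ≫ snd G X) ≫ f := by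
    have := congrArg (· ≫ snd G Y) e
    simpa [Category.assoc] using this
  have key := const_pts f h h1 ((w ≫ q₁) ≫ fst G X) _ _ e2
  have l1 : ∀ z : Pt (G ⊗ X), lift (z ≫ fst G X) (z ≫ snd G X) = z := fun z => by
    rw [← comp_lift, lift_fst_snd, Category.comp_id]
  rw [l1, e1, l1, Category.assoc, Category.assoc] at key
  exact congrArg pimg key

set_option maxHeartbeats 1000000 in
/-- **Blanchard's lemma.** -/
theorem const_field [GrpObj G] [LocallyOfFiniteType G.hom] [ConnectedSpace G.left]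
    [LocallyOfFiniteType X.hom] [LocallyOfFiniteType Y.hom] (f : X ⟶ Y) [IsProper f.left] [GeometricallyConnected f.left]
    (h : G ⊗ X ⟶ Y) (h1 : lift (toUnit X ≫ η[G]) (𝟙 X) ≫ h = f)
    (p q : (G ⊗ X).left) (hpq : (G ◁ f).left p = (G ◁ f).left q) : h.left p = h.left q := by
  let π := Spec.map (CommRingCat.ofHom (algebraMap k (AlgebraicClosure k)))
  let F := Over.pullback π
  obtain ⟨r, hr1, hr2⟩ := Scheme.Pullback.exists_preimage_pullback p q hpq
  let W : Over (Spec (CommRingCat.of k)) :=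
    Over.mk (pullback.fst (G ◁ f).left (G ◁ f).left ≫ (G ⊗ X).hom)
  let q₁ : W ⟶ G ⊗ X := Over.homMk (pullback.fst (G ◁ f).left (G ◁ f).left) rfl
  let q₂ : W ⟶ G ⊗ X := Over.homMk (pullback.snd (G ◁ f).left (G ◁ f).left) (by
    show _ = pullback.fst _ _ ≫ (G ⊗ X).hom
    rw [← Over.w (G ◁ f), pullback.condition_assoc])
  have hq : q₁ ≫ (G ◁ f) = q₂ ≫ (G ◁ f) := Over.OverMorphism.ext pullback.condition
  haveI : LocallyOfFiniteType (G ⊗ X).hom :=
    inferInstanceAs (LocallyOfFiniteType (pullback.fst G.hom X.hom ≫ G.hom))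
  haveI : IsProper (G ◁ f).left := by
    exact MorphismProperty.of_isPullback (P := @IsProper)
      (GrpSchLib.isPullback_whiskerLeft (W := G) f).flip inferInstance
  haveI : LocallyOfFiniteType W.hom :=
    inferInstanceAs (LocallyOfFiniteType (pullback.fst (G ◁ f).left (G ◁ f).left ≫ (G ⊗ X).hom))
  haveI : Surjective π := ⟨fun x => ⟨IsLocalRing.closedPoint (AlgebraicClosure k),
    Subsingleton.elim (α := PrimeSpectrum k) _ _⟩⟩
  -- base change
  haveI : LocallyOfFiniteType (F.obj G).hom := inferInstanceAs (LocallyOfFiniteType (pullback.snd G.hom π))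
  haveI : LocallyOfFiniteType (F.obj X).hom := inferInstanceAs (LocallyOfFiniteType (pullback.snd X.hom π))
  haveI : LocallyOfFiniteType (F.obj Y).hom := inferInstanceAs (LocallyOfFiniteType (pullback.snd Y.hom π))
  haveI : LocallyOfFiniteType (F.obj W).hom := inferInstanceAs (LocallyOfFiniteType (pullback.snd W.hom π))
  haveI : ConnectedSpace (Red.bc π G).left :=
    GrpSchLib.AntiAffine.connectedSpace_bc G (algebraMap k (AlgebraicClosure k))
  haveI : ConnectedSpace (F.obj G).left := ‹ConnectedSpace (Red.bc π G).left›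
  have sqf := Deform.Extension.isPullback_map_left π f
  haveI : IsProper (F.map f).left := MorphismProperty.of_isPullback (P := @IsProper) sqf.flip inferInstance
  haveI : GeometricallyConnected (F.map f).left :=
    MorphismProperty.of_isPullback (P := @GeometricallyConnected) sqf.flip inferInstance
  let μ₀ := Functor.LaxMonoidal.μ F G X
  have hμ1 : μ₀ ≫ F.map (fst G X) = fst _ _ := Functor.Monoidal.μ_fst F G X
  have hμ2 : μ₀ ≫ F.map (snd G X) = snd _ _ := Functor.Monoidal.μ_snd F G X
  let h' : F.obj G ⊗ F.obj X ⟶ F.obj Y := μ₀ ≫ F.map h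
  have h1' : lift (toUnit (F.obj X) ≫ η[F.obj G]) (𝟙 (F.obj X)) ≫ h' = F.map f := by
    rw [← h1, F.map_comp, ← Category.assoc]
    congr 1
    rw [← cancel_mono (Functor.Monoidal.μIso F G X).inv]
    show (_ ≫ μ₀) ≫ Functor.OplaxMonoidal.δ F G X = F.map _ ≫ Functor.OplaxMonoidal.δ F G X
    rw [Category.assoc, Functor.Monoidal.μ_δ, Category.comp_id]
    apply CartesianMonoidalCategory.hom_ext
    · rw [lift_fst, Category.assoc, Functor.OplaxMonoidal.δ_fst, ← F.map_comp, lift_fst,
        ← Hom.one_def, show (toUnit X ≫ η[G]) = (1 : X ⟶ G) from Hom.one_def.symm]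
      exact (map_one F.homMonoidHom).symm
    · rw [lift_snd, Category.assoc, Functor.OplaxMonoidal.δ_snd, ← F.map_comp, lift_snd, F.map_id]
  let δ₀ := Functor.OplaxMonoidal.δ F G X
  have hδ : δ₀ ≫ μ₀ = 𝟙 _ := Functor.Monoidal.δ_μ F G X
  have hδf : δ₀ ≫ (F.obj G ◁ F.map f) = F.map (G ◁ f) ≫ Functor.OplaxMonoidal.δ F G Y := by
    exact Functor.OplaxMonoidal.δ_natural_right (F := F) G f
  have key := fun (z : (F.obj W).left) => const_top (F.map f) h' h1' (F.map q₁ ≫ δ₀) (F.map q₂ ≫ δ₀)
    (by rw [Category.assoc, Category.assoc, hδf, ← Category.assoc, ← Category.assoc, ← F.map_comp, ← F.map_comp, hq]) z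
  obtain ⟨z, hz⟩ := (pullback.fst W.hom π).surjective r
  have hsimp : ∀ qi : W ⟶ G ⊗ X, (F.map qi ≫ δ₀) ≫ h' = F.map (qi ≫ h) := fun qi => by
    rw [Category.assoc, ← Category.assoc δ₀, hδ, Category.id_comp, F.map_comp]
  have k1 := key z
  rw [hsimp, hsimp] at k1
  have hw : ∀ qi : W ⟶ G ⊗ X, pullback.fst Y.hom π ((F.map (qi ≫ h)).left z) = h.left (qi.left r) := fun qi => by
    rw [← hz, ← Scheme.Hom.comp_apply, (Deform.Extension.isPullback_map_left π (qi ≫ h)).w, Scheme.Hom.comp_apply,
      Over.comp_left, Scheme.Hom.comp_apply]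
  have := congrArg (pullback.fst Y.hom π) k1
  rw [hw, hw] at this
  rw [← hr1, ← hr2]
  exact this

end Groth.Agent.Deform.Blanchard
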